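import Mathlib

/-! Coprime action of a `p`-group generated by two sets with complementary fixed points. -/

set_option autoImplicit false

namespace Cfsg.Agent.KG

open scoped Pointwise

universe u

theorem cube_le {V : Type*} [CommGroup V] [Finite V] {a c y : MulAut V} (h : c * a = y * a * c) (ha : y * a = a * y)
    (hc : y * c = c * y) (h1 : ∀ v, y (y v) = v → v = 1) : Nat.card {v // c v = v} ^ 3 ≤ Nat.card V := by
  have e1 : ∀ v, c (a v) = y (a (c v)) := DFunLike.congr_fun h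
  have e2 : ∀ v, y (a v) = a (y v) := DFunLike.congr_fun ha
  have e3 : ∀ v, y (c v) = c (y v) := DFunLike.congr_fun hc
  have h2 : ∀ v, y v = v → v = 1 := fun v e => h1 v (by rw [e, e])
  have key : ∀ u v w, c u = u → c v = y v → c w = y (y w) → u * v * w = 1 → u = 1 ∧ v = 1 ∧ w = 1 := by
    intro u v w hu hv hw e
    have e4 := congrArg c e
    rw [map_mul, map_mul, hu, hv, hw, map_one, ← e, mul_assoc, mul_assoc, mul_right_inj] at e4
    have e5 := congrArg c e4
    have e6 := congrArg y e4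
    simp only [map_mul, ← e3, hv, hw] at e5 e6
    have e7 : w = 1 := h1 _ (div_eq_one.1 (h2 _ (y.injective (by
      simp only [map_div]
      rw [div_eq_div_iff_mul_eq_mul, ← mul_right_inj (y (y v) * y v)]
      calc _ = y (y v) * y (y (y (y w))) * (y v * y w) := by ac_rfl
        _ = _ := by rw [e5, ← e6]; ac_rfl))))
    subst e7
    obtain rfl := h2 v (by simpa using e4)
    simpa using e
  rw [pow_three, ← Nat.card_prod, ← Nat.card_prod]
  refine Nat.card_le_card_of_injective (fun t => t.1 * a t.2.1 * a (a t.2.2)) fun s t e => ?_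
  obtain ⟨e4, e5, e6⟩ := key (s.1 / t.1) (a (s.2.1 / t.2.1)) (a (a (s.2.2 / t.2.2))) (by rw [map_div, s.1.2, t.1.2])
    (by rw [e1, map_div c, s.2.1.2, t.2.1.2]) (by rw [e1, e1, map_div c, s.2.2.2, t.2.2.2, ← e2]) (by
      simp only [map_div, div_mul_div_comm]; exact div_eq_one.2 e)
  simp only [EmbeddingLike.map_eq_one_iff, div_eq_one, Subtype.val_inj] at e4 e5 e6
  exact Prod.ext e4 (Prod.ext e5 e6)

variable {p : ℕ} [Fact p.Prime]

theorem exists_small {V : Type*} [CommGroup V] [Finite V] (hp : 3 ≤ p) {C : Set (MulAut V)}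
    (hQ : IsPGroup p (Subgroup.closure C)) (h0 : Subgroup.closure C ≠ ⊥)
    (h : ∀ z ∈ Subgroup.closure C, z ≠ 1 → (∀ g ∈ Subgroup.closure C, g * z = z * g) → ∀ v, z v = v → v = 1) :
    ∃ c ∈ C, Nat.card {v // c v = v} ^ 3 ≤ Nat.card V := by
  set Q := Subgroup.closure C
  by_cases h1 : Subgroup.center Q = ⊤
  · obtain ⟨c, hc, h2⟩ : ∃ c ∈ C, c ≠ 1 := by
      by_contra! h2
      exact h0 (Subgroup.closure_eq_bot_iff.2 h2)
    have h3 := h c (Subgroup.subset_closure hc) h2 fun g hg => congrArg Subtype.val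
      (Subgroup.mem_center_iff.1 (h1 ▸ Subgroup.mem_top (⟨c, Subgroup.subset_closure hc⟩ : Q)) ⟨g, hg⟩)
    have : Subsingleton {v // c v = v} := ⟨fun a b => Subtype.ext ((h3 _ a.2).trans (h3 _ b.2).symm)⟩
    exact ⟨c, hc, (Nat.pow_le_pow_left (Finite.card_le_one_iff_subsingleton.2 this) 3).trans Nat.card_pos⟩
  have : Nontrivial (Q ⧸ Subgroup.center Q) := QuotientGroup.nontrivial_iff.2 h1
  obtain ⟨⟨a, ha⟩, h2⟩ := @exists_ne _ (hQ.to_quotient (Subgroup.center Q)).center_nontrivial 1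
  obtain ⟨a, rfl⟩ := QuotientGroup.mk_surjective a
  obtain ⟨c, hc, h3⟩ : ∃ c ∈ C, c * a ≠ a * c := by
    by_contra! h3
    refine h2 (Subtype.ext ((QuotientGroup.eq_one_iff a).2 (Subgroup.mem_center_iff.2 fun g => Subtype.ext ?_)))
    exact ((Subgroup.closure_le (Subgroup.centralizer {a.1})).2 (fun c hc b hb => hb ▸ (h3 c hc).symm) g.2 a rfl).symm
  let c' : Q := ⟨c, Subgroup.subset_closure hc⟩
  have h4 : c' * a * (a * c')⁻¹ ∈ Subgroup.center Q := by
    rw [← QuotientGroup.eq_one_iff, QuotientGroup.mk_mul, QuotientGroup.mk_inv, mul_inv_eq_one]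
    exact Subgroup.mem_center_iff.1 ha c'
  generalize hy : c' * a * (a * c')⁻¹ = y at h4
  have h5 := fun g hg => congrArg Subtype.val (Subgroup.mem_center_iff.1 h4 ⟨g, hg⟩)
  refine ⟨c, hc, cube_le (a := a) (y := y) (by simp [← hy, c', mul_assoc]) (h5 _ a.2).symm (h5 _ c'.2).symm
    (h _ (y * y).2 (fun e => h3 ?_) fun g hg => congrArg Subtype.val (Subgroup.mem_center_iff.1 (mul_mem h4 h4) ⟨g, hg⟩))⟩
  obtain ⟨k, hk⟩ := hQ y
  have h6 : y = 1 := by
    rw [← pow_one y, ← (Nat.Coprime.pow_right k ((Nat.coprime_primes Nat.prime_two (Fact.out : p.Prime)).2 (by omega))).gcd_eq_one,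
      pow_gcd_eq_one]
    exact ⟨(pow_two y).trans (Subtype.ext e), hk⟩
  exact congrArg Subtype.val (mul_inv_eq_one.1 (hy.trans h6))

variable {P : Type*} [Group P]

theorem exists_fix {V : Type*} [Group V] [Finite V] [MulDistribMulAction P V] {Q : Subgroup P} (hQ : IsPGroup p Q)
    {W : Subgroup V} (hW : ¬ p ∣ Nat.card W) (h : ∀ g : P, ∀ w ∈ W, g • w ∈ W) {y : V}
    (hy : ∀ g ∈ Q, y⁻¹ * g • y ∈ W) : ∃ w ∈ W, ∀ g ∈ Q, g • (y * w) = y * w := by
  let S : SubMulAction Q V := ⟨{x | y⁻¹ * x ∈ W}, fun g x hx => by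
    simpa [mul_assoc, Subgroup.smul_def] using mul_mem (hy _ g.2) (h g _ hx)⟩
  obtain ⟨x, hx⟩ := hQ.nonempty_fixed_point_of_prime_not_dvd_card S (by
    rwa [Nat.card_congr (show S ≃ W from (Equiv.mulLeft y⁻¹).subtypeEquiv fun _ => Iff.rfl)])
  exact ⟨_, x.2, fun g hg => by simpa using congrArg Subtype.val (hx ⟨g, hg⟩)⟩

theorem smul_eq (hp : 3 ≤ p) (hP : IsPGroup p P) {C D : Set P} (hC : Subgroup.closure C = ⊤)
    (hD : Subgroup.closure D = ⊤) (n : ℕ) : ∀ (V : Type u) [Group V] [Finite V] [MulDistribMulAction P V],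
    Nat.card V = n → ¬ p ∣ n → (∀ c ∈ C, ∀ d ∈ D, ∀ x : V, ∃ y z, d • y = y ∧ c • z = z ∧ x = y * z) →
    ∀ (g : P) (x : V), g • x = x := by
  induction n using Nat.strong_induction_on with | _ n ih => ?_
  rintro V _ _ _ rfl hn H
  by_contra hne
  have hd : ∀ W : Subgroup V, ¬ p ∣ Nat.card W := fun W e => hn (e.trans W.card_subgroup_dvd_card)
  have h1 : ∀ W : Subgroup V, (∀ g : P, ∀ w ∈ W, g • w ∈ W) → W ≠ ⊤ → ∀ (g : P), ∀ w ∈ W, g • w = w := by
    intro W hW ht g w hw
    let _ : MulDistribMulAction P W :=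
      { smul g x := ⟨g • x, hW g x x.2⟩
        one_smul x := Subtype.ext (one_smul P x.1)
        mul_smul a b x := Subtype.ext (mul_smul a b x.1)
        smul_mul a x y := Subtype.ext (smul_mul' a x.1 y.1)
        smul_one a := Subtype.ext (smul_one a) }
    refine congrArg Subtype.val (ih _ (Finite.card_subtype_lt (not_forall.1 (mt W.eq_top_iff'.2 ht)).choose_spec) W rfl
      (hd W) (fun c hc d hd' x => ?_) g ⟨w, hw⟩)
    obtain ⟨y, z, h1, h2, e⟩ := H c hc d hd' x
    obtain ⟨w, h3, h4⟩ := exists_fix (hP.to_subgroup (Subgroup.closure {c, d})) (hd W) hW (y := y⁻¹) fun g hg => by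
      induction hg using Subgroup.closure_induction with
      | mem g hg =>
        obtain rfl | rfl := hg
        · have := mul_mem x.2 (inv_mem (hW g _ x.2))
          simpa [e, h2, mul_assoc] using this
        · simp [h1]
      | one => simp
      | mul a b _ _ ha hb => simpa [mul_smul, mul_assoc] using mul_mem ha (hW a _ hb)
      | inv a _ ha => simpa using hW a⁻¹ _ (inv_mem ha)
    refine ⟨⟨w, h3⟩, (⟨w, h3⟩ : W)⁻¹ * x, Subtype.ext ?_, Subtype.ext ?_, by simp⟩
    · change d • w = w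
      simpa [h1] using h4 d (Subgroup.subset_closure (by simp))
    · change c • (w⁻¹ * x) = w⁻¹ * x
      rw [e, ← mul_assoc, smul_mul', h2, ← inv_inv (w⁻¹ * y), smul_inv', mul_inv_rev, inv_inv,
        h4 c (Subgroup.subset_closure (by simp))]
  have h2 : ∀ W : Subgroup V, W.Normal → (∀ g : P, ∀ w ∈ W, g • w ∈ W) → W ≠ ⊥ → W = ⊤ := by
    intro W _ hW hb
    by_contra ht
    let _ : MulDistribMulAction P (V ⧸ W) :=
      { smul g := QuotientGroup.map W W (MulDistribMulAction.toMonoidHom V g) (hW g)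
        one_smul x := QuotientGroup.induction_on x fun x => congrArg QuotientGroup.mk (one_smul P x)
        mul_smul a b x := QuotientGroup.induction_on x fun x => congrArg QuotientGroup.mk (mul_smul a b x)
        smul_mul a := map_mul _
        smul_one a := map_one _ }
    have h2 := ih _ (by
      rw [← W.card_mul_index]
      exact lt_mul_left Nat.card_pos (W.one_lt_card_iff_ne_bot.2 hb)) (V ⧸ W) rfl
      (fun e => hn (e.trans W.index_dvd_card)) fun c hc d hd x => QuotientGroup.induction_on x fun x => by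
        obtain ⟨y, z, h1, h2, rfl⟩ := H c hc d hd x
        exact ⟨y, z, congrArg QuotientGroup.mk h1, congrArg QuotientGroup.mk h2, rfl⟩
    refine hne fun g x => ?_
    obtain ⟨w, h3, h4⟩ := exists_fix (hP.to_subgroup ⊤) (hd W) hW (y := x) fun g _ => QuotientGroup.eq.1 (h2 g x).symm
    simpa [h1 W hW ht g w h3] using h4 g trivial
  have h3 : IsMulCommutative V := by
    let F := FixedPoints.subgroup P V
    obtain ⟨r, hr, h3⟩ := Nat.exists_prime_and_dvd (n := F.index) fun e =>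
      hne fun g x => (Subgroup.index_eq_one.1 e ▸ Subgroup.mem_top x : x ∈ F) g
    have : Fact r.Prime := ⟨hr⟩
    obtain ⟨R, hR⟩ := hP.nonempty_fixed_point_of_prime_not_dvd_card (Sylow r V) fun e =>
      hn (e.trans ((Sylow.card_dvd_index default).trans (Subgroup.index_dvd_card _)))
    have h4 : (R : Subgroup V) = ⊤ := by
      by_contra h4
      exact R.not_dvd_index (h3.trans (Subgroup.index_dvd_of_le fun w hw g => h1 R (fun g w hw => by
        rw [← hR g]; exact Subgroup.smul_mem_pointwise_smul _ _ _ hw) h4 g w hw))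
    have h5 : IsPGroup r V := (h4 ▸ R.2 : IsPGroup r (⊤ : Subgroup V)).of_equiv Subgroup.topEquiv
    have : Nontrivial V := not_subsingleton_iff_nontrivial.1 fun _ => hne fun _ _ => Subsingleton.elim _ _
    have h6 := h2 (Subgroup.center V) inferInstance (fun g w hw => Subgroup.mem_center_iff.2 fun v => by
      rw [← smul_inv_smul g v, ← smul_mul', ← smul_mul', Subgroup.mem_center_iff.1 hw])
      ((Subgroup.nontrivial_iff_ne_bot _).1 h5.center_nontrivial)
    exact ⟨⟨fun a b => Subgroup.mem_center_iff.1 (h6 ▸ Subgroup.mem_top b) a⟩⟩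
  let _ : CommGroup V := { ‹Group V› with mul_comm := h3.1.1 }
  let ψ := MulDistribMulAction.toMulAut P V
  have h4 : ∀ C : Set P, Subgroup.closure C = ⊤ → ∃ c ∈ C, Nat.card {v : V // c • v = v} ^ 3 ≤ Nat.card V := fun C hC => by
    have e : Subgroup.closure (ψ '' C) = ψ.range := by rw [← MonoidHom.map_closure, hC, MonoidHom.range_eq_map]
    obtain ⟨_, ⟨c, hc, rfl⟩, h⟩ := exists_small hp (C := ψ '' C) (e ▸ hP.of_surjective _ ψ.rangeRestrict_surjective)
      (fun e' => hne fun g => DFunLike.congr_fun (show ψ g ∈ (⊥ : Subgroup _) from e' ▸ e ▸ ⟨g, rfl⟩)) (by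
        rw [e]
        rintro _ ⟨z, rfl⟩ h4 h5 v hv
        by_contra h6
        have h7 := h2 ((ψ z).toMonoidHom.eqLocus (MonoidHom.id V)) inferInstance (fun g w hw =>
          (DFunLike.congr_fun (h5 _ ⟨g, rfl⟩) w).symm.trans (congrArg (g • ·) hw))
          fun e => h6 (show v ∈ (⊥ : Subgroup V) from e ▸ hv)
        exact h4 (MulEquiv.ext fun x => (h7 ▸ Subgroup.mem_top x :)))
    exact ⟨c, hc, h⟩
  obtain ⟨c, hc, h5⟩ := h4 C hC
  obtain ⟨d, hd, h6⟩ := h4 D hD
  have h7 := Nat.card_le_card_of_surjective (fun t : {v : V // d • v = v} × {v : V // c • v = v} => t.1.1 * t.2.1) fun x => by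
    obtain ⟨y, z, h1, h2, rfl⟩ := H c hc d hd x
    exact ⟨(⟨y, h1⟩, ⟨z, h2⟩), rfl⟩
  have h8 := (Nat.pow_le_pow_left h7 3).trans ((Nat.card_prod _ _ ▸ mul_pow _ _ 3).le.trans (mul_le_mul' h6 h5))
  have : Subsingleton V := Finite.card_le_one_iff_subsingleton.1 (by
    by_contra h9
    exact h8.not_gt (by rw [← pow_two]; exact Nat.pow_lt_pow_right (by omega) (by omega)))
  exact hne fun _ _ => Subsingleton.elim _ _

theorem commutator_eq_bot {G : Type u} [Group G] [Finite G] (hp : 3 ≤ p) (P : Sylow p G)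
    (N : Subgroup G) [hn : N.Normal] (hN : (Nat.card N).Coprime p) (hNP : N ⊔ (P : Subgroup G) = ⊤)
    (C D : Set G) (hC : Subgroup.closure C = (P : Subgroup G)) (hD : Subgroup.closure D = (P : Subgroup G))
    (h : ∀ x ∈ N, ∀ c ∈ C, ∀ d ∈ D, IsPGroup p (Subgroup.closure ({x * c * x⁻¹, d} : Set G))) :
    ⁅(P : Subgroup G), N⁆ = ⊥ := by
  let _ : MulDistribMulAction P N := MulDistribMulAction.compHom N ((MulAut.conjNormal (H := N)).comp P.1.subtype)
  have h0 : ∀ (g : P) (x : N), ((g • x : N) : G) = g * x * g.1⁻¹ := fun _ _ => rfl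
  have h1 : ∀ {C : Set G}, Subgroup.closure C = P → Subgroup.closure (P.1.subtype ⁻¹' C) = ⊤ := fun {C} hC => by
    have := Subgroup.closure_preimage_eq_top C
    rwa [hC] at this
  have h2 : ∀ (g : P) (y : N), (y : G)⁻¹ * g * y ∈ P.1 → g • y = y := fun g y e => Subtype.ext (by
    have h3 : (y : G)⁻¹ * (g * y * g.1⁻¹) ∈ N ⊓ P.1 :=
      Subgroup.mem_inf.2 ⟨N.mul_mem (inv_mem y.2) (hn.conj_mem _ y.2 g), by
        simpa only [mul_assoc] using P.1.mul_mem e (P.1.inv_mem g.2)⟩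
    obtain ⟨k, hk⟩ := P.2.exists_card_eq
    rw [(Subgroup.disjoint_of_coprime_natCard (hk ▸ hN.pow_right k)).eq_bot, Subgroup.mem_bot, inv_mul_eq_one] at h3
    exact h3.symm)
  have h3 := smul_eq hp P.2 (h1 hC) (h1 hD) _ N rfl ((Nat.Prime.coprime_iff_not_dvd Fact.out).1 hN.symm)
    fun c hc d hd x => by
      obtain ⟨Q, hQ⟩ := (h x x.2 c hc d hd).exists_le_sylow
      obtain ⟨g, rfl⟩ := MulAction.exists_smul_eq G P Q
      obtain ⟨y, hy, a, ha, rfl⟩ : g ∈ (N : Set G) * (P.1 : Set G) := by rw [← Subgroup.normal_mul, hNP]; trivial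
      have h3 : ∀ {b}, b ∈ Subgroup.closure ({x.1 * c.1 * x.1⁻¹, d.1} : Set G) → y⁻¹ * b * y ∈ P.1 := fun hb => by
        have := hQ hb
        rw [Sylow.coe_subgroup_smul, Subgroup.mem_pointwise_smul_iff_inv_smul_mem] at this
        simpa [mul_assoc] using P.1.mul_mem (P.1.mul_mem ha this) (P.1.inv_mem ha)
      refine ⟨x * (⟨y, hy⟩⁻¹ * x)⁻¹, ⟨y, hy⟩⁻¹ * x, h2 _ _ ?_, ?_, by simp⟩
      · simpa using h3 (Subgroup.subset_closure (by simp))
      · rw [← inv_inj, ← smul_inv']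
        exact h2 _ _ (by simpa [mul_assoc] using h3 (b := x * c * x⁻¹) (Subgroup.subset_closure (by simp)))
  exact eq_bot_iff.2 (Subgroup.commutator_le.2 fun g hg x hx => by
    simpa [commutatorElement_def, mul_inv_eq_one] using (h0 ⟨g, hg⟩ ⟨x, hx⟩).symm.trans (congrArg _ (h3 ⟨g, hg⟩ ⟨x, hx⟩)))

end Cfsg.Agent.KG
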